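import Cfsg.Agent.Spor.Rua.S.D0

set_option autoImplicit false
set_option maxRecDepth 100000000
set_option Elab.async false

namespace Cfsg.Agent.Spor.Rua.S

theorem gr4 : sub M3 (U.growI W2 [0, 1, 2, 2, 1, 0, 1, 2, 2, 1, 0, 1, 2, 2, 1, 0, 1, 2, 2, 1, 0, 1, 2] (Nat.shiftLeft 1 1)) = true := by decide +kernel

theorem sd6 : U.sends [1] 0 1 = true := by decide +kernel

theorem gr7 : sub (ones 4060) (U.growI ([1] :: W2) [0, 1, 2, 3, 3, 2, 1, 0, 1, 2, 3, 3, 2, 1, 0, 1, 2, 3, 3, 2, 1, 0, 1, 2, 3, 3, 2, 1, 0, 2] (Nat.shiftLeft 1 0)) = true := by decide +kernel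

theorem gr10 : sub M9 (U.growI W2 [0, 1, 2, 2, 1, 0, 1, 2, 2, 1, 0, 1, 2, 2, 1, 0, 1, 2] (Nat.shiftLeft 1 352)) = true := by decide +kernel

theorem sd12 : U.sends [1, 3, 7, 3, 7, 3, 7, 3, 1] 0 352 = true := by decide +kernel

theorem gr13 : sub (ones 4060) (U.growI ([1, 3, 7, 3, 7, 3, 7, 3, 1] :: W2) [0, 1, 2, 3, 3, 2, 1, 0, 0, 1, 2, 3, 3, 2, 1, 0, 0, 1, 2, 1] (Nat.shiftLeft 1 0)) = true := by decide +kernel

theorem ff15 : U.fixFrom 12 4060 1 = true := by decide +kernel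

theorem ff16 : U.fixFrom 12 4060 3 = true := by decide +kernel

theorem ff17 : U.fixFrom 12 4060 5 = true := by decide +kernel

theorem ff18 : U.fixFrom 12 4060 7 = true := by decide +kernel

theorem ff19 : U.fixFrom 12 4060 9 = true := by decide +kernel

end Cfsg.Agent.Spor.Rua.S
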