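import Cfsg.Agent.Spor.Chk2
import Cfsg.Agent.Spor.Rua.D0

set_option autoImplicit false
set_option maxRecDepth 100000000
set_option Elab.async false
noncomputable section

namespace Cfsg.Agent.Spor.Rua.S

def W1 : List (List Nat) := [[1], [3], [5], [7], [9]]

def W2 : List (List Nat) := [[3], [7], [9]]

def M3 : Nat := nat_lit 0x20000002000000000000000000000000000000000000000000200000000000000000000000000000000000014000000240000021020000000008080ca0000005001000820130800800400800041104b01000005021400118942110000041400310c001042614161404c14130200500160c0000000b0082848304dd00680d4080004059ee0b00481224415616095e706e2c368697ee03516dbf0503360d202d820481400000006c02cec020f07561fef47a0bc0845800000000ddc156061b5bd7afafa05685bda7d74051e700b7eb9f6f40540ddfb7ebf5e816daf5c0f69da3e52edb95b018ee79e06e7b74edfbedd5700bb75ac836ed7fb7eefbff3ddf77efefefbf756e01f76fdf77ef5ec0fbdf7dffeeffdf7d7ff7f7fdfbfdff7ffbffeffdff7fefb77807fdffdbfdffbff7dfd7700feffaffffdf7ffeff7ffff7dffff7ff7fffffffffffffefffefffffffffeffffbffffffffffffffffffffeffffff7ffffffffffffffffffffffffff7ffffffefffffffffffffffffffffffffffffffffffffffffffffffffffffffffffffffffffffffffffffffffffffffe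

def M9 : Nat := nat_lit 0xfffffffffffffffffffffffffffffffffffffffffffffffffffffffffffffffffffffffffffffffffffffffffffffffffffffffffffffffffffffffffffffffffffffffffffffffffffffffffffffffffffffffffffffffffffffffffffffffdffffffdffffffffffffffffffffffffffffffffffffffffffdffffffffffffffffffffffffffffffffffffebffffffdbfffffdefdfffffffff7f7f35ffffffaffefff7dfecf7ff7ffbff7fffbeefb4fefffffafdebffee76bdeefffffbebffcef3ffefbd9ebe9ebfb3ebecfdffaffe9f3fffffff4ff7d7b7cfb22ff97f2bf7fffbfa611f4ffb7eddbbea9e9f6a18f91d3c9796811fcae9240fafcc9f2dfd27dfb7ebfffffff93fd313fdf0f8a9e010b85f43f7ba7ffffffff223ea9f9e4a42850505fa97a425828bfae18ff48146090bfabf22048140a17e9250a3f09625c1ad1246a4fe711861f91848b1204122a8ff448a537c9128048110400c22088101010408a91fe0890208810a13f04208200110020828008080204020080040010020080104887f80200240200400820288ff01005000020800100800008200008008000000000000010001000000000100004000000000000000000001000000800000000000000000000000000800000010000000000000000000000000000000000000000000000000000000000000000000000000000000000000000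

def U : Tab := ⟨[n0, n1, n2, n3, n4], [⟨0, false, 0, 0, []⟩, ⟨0, false, 0, 0, []⟩, ⟨0, true, 0, 0, []⟩, ⟨1, false, 0, 0, []⟩, ⟨1, true, 0, 0, []⟩, ⟨2, false, 0, 0, []⟩, ⟨2, true, 0, 0, []⟩, ⟨3, false, 0, 0, []⟩, ⟨3, true, 0, 0, []⟩, ⟨4, false, 0, 0, []⟩, ⟨4, true, 0, 0, []⟩]⟩

end Cfsg.Agent.Spor.Rua.S
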